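import Cfsg.Agent.Lib.Spor.HeRecog.Interface

/-!
# The checks that connect the relations of a frame with the tables of the models
-/

set_option autoImplicit false
set_option maxRecDepth 100000
set_option maxHeartbeats 1000000

namespace CfsgLib.Spor.HeRecog

/-- the index of the lift `F^a H^b` -/
def smallI (a b : Nat) : Nat := Nat.add (Nat.mul 3 (Nat.mod a 7)) (Nat.mod b 3)

/-- the index of the lift `F^a H^b T F^c` -/
def bigI (a b c : Nat) : Nat :=
  Nat.add (Nat.add (Nat.mul 21 (Nat.add (Nat.mod c 7) 1)) (Nat.mul 3 (Nat.mod a 7))) (Nat.mod b 3)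

/-- for `T F^c T = z^x F^a H^b T F^d` with `c = 1, …, 6`: the value of `(a, b, d)` -/
def tftI : Nat → Nat × Nat × Nat
  | 1 => (6, 0, 6)
  | 2 => (3, 1, 3)
  | 3 => (2, 2, 2)
  | 4 => (5, 2, 5)
  | 5 => (4, 1, 4)
  | _ => (1, 0, 1)

/-- for `T F^c T = z^x F^a H^b T F^d` with `c = 1, …, 6`: the value of `x` -/
def tftB (t : Nat) : Nat → Nat
  | 1 => t
  | 2 => t
  | 4 => t
  | _ => 0

/-- right multiplication of a lift by `F` -/
def rgF (k : Nat) : Nat :=
  bif Nat.blt k 21 then smallI (Nat.add (Nat.div k 3) (Nat.pow 2 (Nat.mod k 3))) (Nat.mod k 3)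
  else bigI (Nat.div (Nat.mod k 21) 3) (Nat.mod (Nat.mod k 21) 3)
    (Nat.add (Nat.sub (Nat.div k 21) 1) 1)

/-- right multiplication of a lift by `H` -/
def rgH (k : Nat) : Nat :=
  bif Nat.blt k 21 then smallI (Nat.div k 3) (Nat.add (Nat.mod k 3) 1)
  else bigI (Nat.div (Nat.mod k 21) 3) (Nat.add (Nat.mod (Nat.mod k 21) 3) 2)
    (Nat.mul 4 (Nat.sub (Nat.div k 21) 1))

/-- right multiplication of a lift by `T`: the power of `z` and the lift -/
def rgT (t k : Nat) : Nat × Nat :=
  bif Nat.blt k 21 then (0, bigI (Nat.div k 3) (Nat.mod k 3) 0)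
  else
    let a := Nat.div (Nat.mod k 21) 3
    let b := Nat.mod (Nat.mod k 21) 3
    let c := Nat.sub (Nat.div k 21) 1
    bif Nat.beq c 0 then (t, smallI a b)
    else
      let w := tftI c
      (tftB t c, bigI (Nat.add a (Nat.mul w.1 (Nat.pow 2 b))) (Nat.add b w.2.1) w.2.2)

/-- iteration -/
def iterN {α : Type} (f : α → α) : Nat → α → α
  | 0, x => x
  | n + 1, x => f (iterN f n x)

/-- multiplication by `F` of a lift with a power of `z` -/
def stF (p : Nat × Nat) : Nat × Nat := (p.1, rgF p.2)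

/-- multiplication by `H` of a lift with a power of `z` -/
def stH (p : Nat × Nat) : Nat × Nat := (p.1, rgH p.2)

/-- multiplication by `T` of a lift with a power of `z` -/
def stT (t : Nat) (p : Nat × Nat) : Nat × Nat :=
  let r := rgT t p.2
  (Nat.add p.1 r.1, r.2)

/-- the product of two lifts -/
def foldW (t j l : Nat) : Nat × Nat :=
  bif Nat.blt l 21 then iterN stH (Nat.mod l 3) (iterN stF (Nat.div l 3) (0, j))
  else iterN stF (Nat.sub (Nat.div l 21) 1) (stT t
    (iterN stH (Nat.mod (Nat.mod l 21) 3) (iterN stF (Nat.div (Nat.mod l 21) 3) (0, j))))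

/-- the action of a lift computed from that of `F`, `H` and `T` -/
def actW (k j q : Nat) : Nat :=
  bif Nat.blt j 21 then iterN (qAct k fN) (Nat.div j 3) (iterN (qAct k hN) (Nat.mod j 3) q)
  else iterN (qAct k fN) (Nat.div (Nat.mod j 21) 3) (iterN (qAct k hN) (Nat.mod (Nat.mod j 21) 3)
    (qAct k tN (iterN (qAct k fN) (Nat.sub (Nat.div j 21) 1) q)))

/-- the image of an element of the extraspecial group, computed from those of the generators -/
def qFold (img : List Nat) (q : Nat) : Nat :=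
  let p (i : Nat) : Nat := bif Nat.beq (Nat.mod (Nat.div q (Nat.pow 2 i)) 2) 1 then img.getD i 0 else 0
  qMul (qMul (qMul (qMul (qMul (qMul (p 0) (p 1)) (p 2)) (p 3)) (p 4)) (p 5))
    (Nat.mul 64 (Nat.mod (Nat.div q 64) 2))

theorem qMul_check : allN 128 (fun a => allN 128 fun b =>
    let c := qMul a b
    Nat.beq (Nat.mod c 8) (Nat.xor (Nat.mod a 8) (Nat.mod b 8)) &&
      Nat.beq (Nat.mod (Nat.div c 8) 8)
        (Nat.xor (Nat.mod (Nat.div a 8) 8) (Nat.mod (Nat.div b 8) 8)) &&
      Nat.beq (Nat.mod (Nat.div c 64) 2)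
        (Nat.mod (Nat.add (Nat.add (Nat.div a 64) (Nat.div b 64))
          (Nat.add (Nat.add (Nat.mul (Nat.mod (Nat.div a 8) 2) (Nat.mod b 2))
            (Nat.mul (Nat.mod (Nat.div a 16) 2) (Nat.mod (Nat.div b 2) 2)))
            (Nat.mul (Nat.mod (Nat.div a 32) 2) (Nat.mod (Nat.div b 4) 2)))) 2)) = true := by
  decide +kernel

theorem img_lt : ∀ j < 2, (∀ x ∈ imgF, x < 128) ∧ (∀ x ∈ imgH, x < 128) ∧ ∀ x ∈ imgT j, x < 128 := by
  decide +kernel

theorem img_check : allN 2 (fun j => allN 128 fun q =>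
    let k := Nat.mul 2 j
    Nat.beq (qAct k fN q) (qFold imgF q) && Nat.beq (qAct k hN q) (qFold imgH q) &&
      Nat.beq (qAct k tN q) (qFold (imgT j) q)) = true := by decide +kernel

theorem act_check : allN 2 (fun j => allN 168 fun l => allN 128 fun q =>
    Nat.beq (qAct (Nat.mul 2 j) l q) (actW (Nat.mul 2 j) l q)) = true := by decide +kernel

theorem fold_check : allN 2 (fun t => allN 168 fun j => allN 168 fun l =>
    let r := foldW t j l
    Nat.beq (coc t j l) (Nat.mod r.1 2) && Nat.beq (pMul j l) r.2 &&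
      Nat.blt r.2 168) = true := by decide +kernel

end CfsgLib.Spor.HeRecog
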